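import Groth.Agent.SemiAbLib.OverField
import Groth.Agent.AlbNormLib.Min
import Groth.Agent.GrpdFieldLib.ClosedSub
import Groth.Agent.S11936
import Groth.Agent.S8049
import Groth.Agent.S3030
import Groth.Agent.AntiAffLib.KerSub
import Groth.Agent.AntiAffLib.Image
import Groth.Agent.AlbNormLib.SplitTori
import Groth.Agent.GrpFieldLib.KerShear
import Groth.Agent.TorsExtLib.Props
import Groth.Agent.S5938
import Groth.Agent.MaxTorFieldLib.Main

/-!
The smallest normal subgroup with semi-abelian quotient.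
-/

set_option autoImplicit false
set_option linter.style.haveILetI false
set_option backward.isDefEq.respectTransparency false
set_option backward.isDefEq.respectTransparency.types false
set_option maxHeartbeats 1000000

noncomputable section

universe u

open CategoryTheory CategoryTheory.Limits MonoidalCategory CartesianMonoidalCategory AlgebraicGeometry
open scoped MonObj
open Groth.Agent

attribute [-instance] CategoryTheory.Hom.commGroup

namespace Gug

variable {k : Type u} [Field k]

/-- A reduced group of finite type over a perfect field is smooth. -/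
theorem smooth_of_reduced [PerfectField k] (G : Over (Spec (CommRingCat.of k))) [GrpObj G]
    [LocallyOfFiniteType G.hom] [IsReduced G.left] : Smooth G.hom := by
  let K := AlgebraicClosure k
  let ξ : Spec (CommRingCat.of K) ⟶ Spec (CommRingCat.of k) := Spec.map (CommRingCat.ofHom (algebraMap k K))
  haveI : GeometricallyReduced G.hom := GrpdFieldLib.geometricallyReduced_of_perfect G.hom
  letI : GrpObj ((Over.pullback ξ).obj G) := Functor.grpObjObj
  haveI : LocallyOfFiniteType ((Over.pullback ξ).obj G).hom :=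
    MorphismProperty.pullback_snd (P := @LocallyOfFiniteType) _ _ ‹_›
  haveI : IsReduced ((Over.pullback ξ).obj G).left :=
    GeometricallyReduced.geometrically_isReduced (f := G.hom) ξ _ _ (IsPullback.of_hasPullback G.hom ξ)
  have hs : Smooth (pullback.snd G.hom ξ) :=
    GrpSchLib.smooth_of_isAlgClosed_of_isReduced ((Over.pullback ξ).obj G)
  haveI : Surjective ξ := SemiAbLib.surjective_spec _
  haveI : Flat ξ := GrpField.flat_field _
  haveI : QuasiCompact ξ := quasiCompact_of_compactSpace _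
  exact MorphismProperty.of_pullback_snd_of_descendsAlong (P := @Smooth) (Q := @Surjective ⊓ @Flat ⊓ @QuasiCompact)
    (g := ξ) ⟨⟨inferInstance, inferInstance⟩, inferInstance⟩ hs

/-- The reduced identity component of a normal subgroup. -/
theorem exists_reduced_component [PerfectField k] {G : Over (Spec (CommRingCat.of k))} [GrpObj G] [Smooth G.hom]
    [QuasiCompact G.hom] {K : Over (Spec (CommRingCat.of k))} [GrpObj K] (i : K ⟶ G) [IsMonHom i]
    [IsClosedImmersion i.left] (hn : AlgGrp.IsNormalHom i) :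
    ∃ (K₁ : Over (Spec (CommRingCat.of k))) (_ : GrpObj K₁) (a : K₁ ⟶ K), IsMonHom a ∧ IsClosedImmersion a.left ∧
      Smooth K₁.hom ∧ ConnectedSpace K₁.left ∧ AlgGrp.IsNormalHom (a ≫ i) ∧
      ∀ (N : Over (Spec (CommRingCat.of k))) [GrpObj N] (π : K ⟶ N) [IsMonHom π] [Surjective π.left],
        a ≫ π = 1 → Finite N.left := by
  haveI : LocallyOfFiniteType K.hom := by rw [← Over.w i]; infer_instance
  haveI : QuasiCompact K.hom := by rw [← Over.w i]; infer_instance
  let I := Scheme.IdealSheafData.vanishingIdeal (X := K.left) ⟨Set.univ, isClosed_univ⟩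
  let R : Over (Spec (CommRingCat.of k)) := Over.mk (I.subschemeι ≫ K.hom)
  let r : R ⟶ K := Over.homMk I.subschemeι rfl
  haveI : IsClosedImmersion r.left := inferInstanceAs (IsClosedImmersion I.subschemeι)
  haveI : IsReduced R.left := DevissLib.isReduced_vanishingIdeal' _
  haveI : Surjective r.left := ⟨fun y => by
    have h : Set.range I.subschemeι = Set.univ := by
      rw [Scheme.IdealSheafData.range_subschemeι, Scheme.IdealSheafData.coe_support_vanishingIdeal]
      rfl
    exact h.ge (Set.mem_univ y)⟩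
  haveI : Mono r := Over.mono_of_mono_left r
  obtain ⟨⟨m, hm⟩, ⟨ι', hι⟩, ⟨e, he⟩⟩ := Groth.Agent.S11936.result k K R r
  obtain ⟨_, hr⟩ := SubDesc.exists_grpObj_of_mono r
    ⟨m, hm.trans (by rw [Hom.mul_def]; congr 1)⟩
    ⟨e, by rw [he, MonObj.one_eq_one]⟩ ⟨ι', by rw [hι]; rfl⟩
  haveI := hr
  have hnr := Groth.Agent.S8049.result k G K R i hn r
  haveI : LocallyOfFiniteType R.hom := by rw [← Over.w r]; infer_instance
  haveI : QuasiCompact R.hom := by rw [← Over.w r]; infer_instance
  haveI := smooth_of_reduced R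
  obtain ⟨K₁, _, j, hj, hjc, hjf, hjr, hjg, -⟩ := GrpField.exists_identity_component (G := R)
  haveI := hj; haveI := hjc; haveI := hjf; haveI := hjg
  haveI : LocallyOfFiniteType K₁.hom := by rw [← Over.w j]; infer_instance
  haveI : QuasiCompact K₁.hom := by rw [← Over.w j]; infer_instance
  haveI := AntiAffLib.lfp_of_lft j
  haveI : IsOpenImmersion j.left := IsOpenImmersion.of_flat_of_mono _
  haveI : Smooth K₁.hom := by rw [← Over.w j]; infer_instance
  haveI : IrreducibleSpace K₁.left := GeometricallyIrreducible.irreducibleSpace_of_subsingleton K₁.hom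
  haveI : ConnectedSpace K₁.left := inferInstance
  haveI : IsClosedImmersion (r ≫ i).left := by rw [Over.comp_left]; infer_instance
  haveI : Mono (r ≫ i) := Over.mono_of_mono_left _
  have hn₁ := AlbNormLib.isNormalHom_component' (r ≫ i) hnr j
  refine ⟨K₁, inferInstance, j ≫ r, inferInstance, by rw [Over.comp_left]; infer_instance, inferInstance, inferInstance,
    by rw [Category.assoc]; exact hn₁, fun N _ π _ _ hπ => ?_⟩
  haveI : Mono j := Over.mono_of_mono_left j
  haveI : Flat K₁.hom := GrpField.flat_field _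
  haveI : Flat R.hom := GrpField.flat_field _
  haveI : IsClosedImmersion (𝟙 R : R ⟶ R).left := inferInstanceAs (IsClosedImmersion (𝟙 R.left))
  have hn1 : AlgGrp.IsNormalHom (𝟙 R) := fun T g n => ⟨g * n * g⁻¹, by simp only [Category.comp_id]⟩
  have hnj : AlgGrp.IsNormalHom j := by
    have hn2 := AlbNormLib.isNormalHom_component' (𝟙 R) hn1 j
    rwa [Category.comp_id] at hn2
  obtain ⟨E, _, e', he', he'f, he's, he'l, hek, -, -, -⟩ := Groth.Agent.S3030.result k K₁ R j hnj
  haveI := he'; haveI := he'f; haveI := he's; haveI := he'l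
  haveI : LocallyOfFiniteType E.hom := by
    haveI : LocallyOfFiniteType (e'.left ≫ E.hom) := by rw [Over.w e']; infer_instance
    exact Groth.Agent.S5938.result e'.left E.hom
  haveI : IsFinite E.hom := AlbLib.isFinite_of_open_kernel j e' hek
  obtain ⟨w, -, hw⟩ := AlbNormLib.exists_desc_hom hek (r ≫ π) (by rw [← Category.assoc]; exact hπ)
  haveI : Finite E.left := by
    have h := E.hom.finite_preimage_singleton (IsLocalRing.closedPoint k : PrimeSpectrum k)
    rw [show E.hom ⁻¹' {(IsLocalRing.closedPoint k : PrimeSpectrum k)} = Set.univ from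
      Set.eq_univ_of_forall fun x => @Subsingleton.elim (PrimeSpectrum k) _ _ _] at h
    exact Set.finite_univ_iff.1 h
  refine Finite.of_surjective w.left fun y => ?_
  obtain ⟨x, rfl⟩ := π.left.surjective y
  obtain ⟨z, rfl⟩ := r.left.surjective x
  exact ⟨e'.left z, by rw [← Scheme.Hom.comp_apply, ← Over.comp_left, hw]; rfl⟩

/-- Semi-abelian varieties are stable under isogenies. -/
theorem isSemiAb_of_finite_kernel {G H N : Over (Spec (CommRingCat.of k))} [GrpObj G] [GrpObj H] [GrpObj N]
    [LocallyOfFiniteType H.hom] [QuasiCompact H.hom] (hH : SemiAbLib.IsSemiAb H) [Smooth G.hom] [QuasiCompact G.hom]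
    [ConnectedSpace G.left] (f : G ⟶ H) [IsMonHom f] (n : N ⟶ G) [IsMonHom n] [IsFinite N.hom]
    (hker : AlgGrp.IsKernel n f) : SemiAbLib.IsSemiAb G := by
  let K := AlgebraicClosure k
  let F := AVAmpleLib.bcF (k := k) K
  letI : GrpObj (F.obj G) := Functor.grpObjObj
  letI : GrpObj (F.obj H) := Functor.grpObjObj
  letI : GrpObj (F.obj N) := Functor.grpObjObj
  haveI : IsMonHom (F.map f) := @Functor.map.instIsMonHom _ _ _ _ _ _ F _ _ _ _ _ f _
  haveI : IsMonHom (F.map n) := @Functor.map.instIsMonHom _ _ _ _ _ _ F _ _ _ _ _ n _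
  haveI : Smooth (F.obj G).hom := inferInstanceAs (Smooth (pullback.snd G.hom _))
  haveI : QuasiCompact (F.obj G).hom := inferInstanceAs (QuasiCompact (pullback.snd G.hom _))
  haveI : LocallyOfFiniteType (F.obj H).hom := inferInstanceAs (LocallyOfFiniteType (pullback.snd H.hom _))
  haveI : QuasiCompact (F.obj H).hom := inferInstanceAs (QuasiCompact (pullback.snd H.hom _))
  haveI : IsFinite (F.obj N).hom := inferInstanceAs (IsFinite (pullback.snd N.hom _))
  haveI : ConnectedSpace (F.obj G).left := SemiAbLib.connected_bc G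
  exact SemiAbLib.isSemiAb_of_bc K G (SemiAbLib.IsSemiAb.of_finite_kernel (SemiAbLib.isSemiAb_bc K hH) (F.map f)
    (F.map n) (SemiAbLib.isKernel_map _ hker))

/-- Products of semi-abelian varieties are semi-abelian. -/
theorem isSemiAb_prod {A B : Over (Spec (CommRingCat.of k))} [GrpObj A] [GrpObj B] [LocallyOfFiniteType A.hom]
    [QuasiCompact A.hom] [LocallyOfFiniteType B.hom] [QuasiCompact B.hom] (hA : SemiAbLib.IsSemiAb A)
    (hB : SemiAbLib.IsSemiAb B) : SemiAbLib.IsSemiAb (A ⊗ B) := by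
  obtain ⟨hAs, hAc⟩ := hA.props
  obtain ⟨hBs, hBc⟩ := hB.props
  haveI := hAs; haveI := hAc; haveI := hBs; haveI := hBc
  haveI : Smooth (A ⊗ B).hom := inferInstanceAs (Smooth (pullback.fst A.hom B.hom ≫ A.hom))
  haveI : QuasiCompact (A ⊗ B).hom := inferInstanceAs (QuasiCompact (pullback.fst A.hom B.hom ≫ A.hom))
  haveI := AlbLib.geometricallyIntegral_grp A
  haveI := AlbLib.geometricallyIntegral_grp B
  haveI : GeometricallyIrreducible A.hom := inferInstance
  haveI : IrreducibleSpace B.left := GeometricallyIrreducible.irreducibleSpace_of_subsingleton B.hom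
  haveI : GeometricallyIrreducible (pullback.snd A.hom B.hom) := inferInstance
  haveI : UniversallyOpen (pullback.snd A.hom B.hom) := inferInstance
  haveI : IrreducibleSpace (A ⊗ B).left :=
    GeometricallyIrreducible.irreducibleSpace (pullback.snd A.hom B.hom) (pullback.snd A.hom B.hom).isOpenMap
  haveI : ConnectedSpace (A ⊗ B).left := inferInstance
  haveI : IsMonHom (1 : A ⟶ B) := Groth.Agent.MaxTorField.isMonHom_one A B
  have hk : AlgGrp.IsKernel (lift (𝟙 A) (1 : A ⟶ B)) (snd A B) := by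
    refine ⟨⟨by rw [lift_snd, Hom.one_def]⟩, ⟨PullbackCone.IsLimit.mk _ (fun c => c.fst ≫ fst A B)
      (fun c => ?_) (fun c => toUnit_unique _ _) (fun c m h1 _ => ?_)⟩⟩
    · refine CartesianMonoidalCategory.hom_ext _ _ (by simp) ?_
      rw [Category.assoc, lift_snd, MonObj.comp_one, c.condition, Hom.one_def, toUnit_unique c.snd (toUnit _)]
    · simpa using congrArg (· ≫ fst A B) h1
  exact hA.extension' hB (lift (𝟙 A) 1) (snd A B) hk

/-- The smallest normal subgroup with semi-abelian quotient. -/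
theorem exists_gug [PerfectField k] (G : Over (Spec (CommRingCat.of k))) [GrpObj G] [Smooth G.hom] [QuasiCompact G.hom]
    [ConnectedSpace G.left] :
    ∃ (H : Over (Spec (CommRingCat.of k))) (_ : GrpObj H) (h : H ⟶ G), IsMonHom h ∧ IsClosedImmersion h.left ∧
      AlgGrp.IsNormalHom h ∧ Smooth H.hom ∧ ConnectedSpace H.left ∧
      (∃ (Q : Over (Spec (CommRingCat.of k))) (_ : GrpObj Q) (q : G ⟶ Q), IsMonHom q ∧ Surjective q.left ∧
        Flat q.left ∧ AlgGrp.IsKernel h q ∧ SemiAbLib.IsSemiAb Q) ∧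
      ∀ (H' : Over (Spec (CommRingCat.of k))) [GrpObj H'] (h' : H' ⟶ G) [IsMonHom h'] [IsClosedImmersion h'.left]
        (Q' : Over (Spec (CommRingCat.of k))) [GrpObj Q'] (q' : G ⟶ Q') [IsMonHom q'] [Surjective q'.left]
        [Flat q'.left], AlgGrp.IsNormalHom h' → Smooth H'.hom → ConnectedSpace H'.left → AlgGrp.IsKernel h' q' →
        SemiAbLib.IsSemiAb Q' → ∃ g : H ⟶ H', g ≫ h' = h := by
  haveI : IsLocallyNoetherian G.left := LocallyOfFiniteType.isLocallyNoetherian G.hom
  haveI : CompactSpace G.left := QuasiCompact.compactSpace_of_compactSpace G.hom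
  haveI : IsNoetherian G.left := ⟨⟩
  haveI := Groth.Agent.S4362.result G.left
  let S : Set G.left.IdealSheafData := {I | ∃ (H : Over (Spec (CommRingCat.of k))) (_ : GrpObj H) (h : H ⟶ G),
    IsMonHom h ∧ IsClosedImmersion h.left ∧ AlgGrp.IsNormalHom h ∧ Smooth H.hom ∧ ConnectedSpace H.left ∧
      (∃ (Q : Over (Spec (CommRingCat.of k))) (_ : GrpObj Q) (q : G ⟶ Q), IsMonHom q ∧ Surjective q.left ∧
        Flat q.left ∧ AlgGrp.IsKernel h q ∧ SemiAbLib.IsSemiAb Q) ∧ h.left.ker = I}
  have hlft : ∀ (H Q : Over (Spec (CommRingCat.of k))) [GrpObj H] [GrpObj Q] (h : H ⟶ G) [IsMonHom h]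
      [IsClosedImmersion h.left] (q : G ⟶ Q) [IsMonHom q] [Flat q.left] [Surjective q.left]
      (_ : AlgGrp.IsKernel h q), LocallyOfFiniteType Q.hom ∧ QuasiCompact Q.hom := fun H Q _ _ h _ _ q _ _ _ hk => by
    haveI : CompactSpace Q.left := ⟨by
      rw [← Set.range_eq_univ.mpr q.left.surjective]; exact isCompact_range q.left.continuous⟩
    refine ⟨?_, quasiCompact_of_compactSpace _⟩
    haveI : IsSeparated Q.hom := GrpField.isSeparated_grp (G := Q)
    haveI : QuasiCompact q.left := by
      haveI : QuasiCompact (q.left ≫ Q.hom) := by rw [Over.w q]; infer_instance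
      exact QuasiCompact.of_comp q.left Q.hom
    haveI : LocallyOfFiniteType H.hom := by rw [← Over.w h]; infer_instance
    haveI : LocallyOfFinitePresentation H.hom := LocallyOfFinitePresentation.iff_locallyOfFiniteType.2 inferInstance
    haveI : LocallyOfFinitePresentation (fst G H).left :=
      TorsExtLib.property_fst (Q := @LocallyOfFinitePresentation) G H ‹_›
    have sq := (Groth.Agent.GrpKerShear.isPullback_shear q h hk).map (Over.forget _)
    haveI : LocallyOfFinitePresentation q.left :=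
      MorphismProperty.of_isPullback_of_descendsAlong (P := @LocallyOfFinitePresentation)
        (Q := @Surjective ⊓ @Flat ⊓ @QuasiCompact) sq.flip.flip
        ⟨⟨‹Surjective q.left›, ‹Flat q.left›⟩, ‹QuasiCompact q.left›⟩ ‹LocallyOfFinitePresentation (fst G H).left›
    haveI : LocallyOfFiniteType (q.left ≫ Q.hom) := by rw [Over.w q]; infer_instance
    exact Groth.Agent.S5938.result q.left Q.hom
  have hne : S.Nonempty := by
    haveI : IsMonHom (toUnit G) := inferInstance
    haveI : Flat (toUnit G).left := by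
      haveI : IsReduced (𝟙_ (Over (Spec (CommRingCat.of k)))).left := inferInstanceAs (IsReduced (Spec (CommRingCat.of k)))
      haveI : LocallyOfFiniteType (𝟙_ (Over (Spec (CommRingCat.of k)))).hom := inferInstanceAs (LocallyOfFiniteType (𝟙 _))
      haveI : Surjective (toUnit G).left := ⟨fun y => ⟨GrpField.unitPt G, Subsingleton.elim (α := PrimeSpectrum k) _ _⟩⟩
      exact AntiAffLib.flat_of_surjective (toUnit G)
    haveI : Surjective (toUnit G).left := ⟨fun y => ⟨GrpField.unitPt G, Subsingleton.elim (α := PrimeSpectrum k) _ _⟩⟩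
    refine ⟨_, G, inferInstance, 𝟙 G, inferInstance, inferInstanceAs (IsClosedImmersion (𝟙 G.left)),
      fun T g n => ⟨g * n * g⁻¹, by simp only [Category.comp_id]⟩, ‹_›, ‹_›,
      ⟨𝟙_ _, inferInstance, toUnit G, inferInstance, inferInstance, inferInstance,
        IsPullback.of_horiz_isIso_mono ⟨toUnit_unique _ _⟩, SemiAbLib.isSemiAb_unit⟩, rfl⟩
  obtain ⟨_, ⟨H, _, h, hm, hci, hn, hHs, hHc, hQ, rfl⟩, hmax⟩ := WellFounded.has_min wellFounded_gt S hne
  haveI := hm; haveI := hci; haveI := hHs; haveI := hHc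
  refine ⟨H, inferInstance, h, hm, hci, hn, hHs, hHc, hQ, fun H' _ h' _ _ Q' _ q' _ _ _ _ _ _ hk' hQ' => ?_⟩
  obtain ⟨Q, _, q, hq, hqs, hqf, hk, hQsa⟩ := hQ
  haveI := hq; haveI := hqs; haveI := hqf
  obtain ⟨hQl, hQq⟩ := hlft H Q h q hk
  obtain ⟨hQl', hQq'⟩ := hlft H' Q' h' q' hk'
  haveI := hQl; haveI := hQq; haveI := hQl'; haveI := hQq'
  haveI : LocallyOfFiniteType (Q ⊗ Q').hom := inferInstanceAs (LocallyOfFiniteType (pullback.fst Q.hom Q'.hom ≫ Q.hom))
  haveI : QuasiCompact (Q ⊗ Q').hom := inferInstanceAs (QuasiCompact (pullback.fst Q.hom Q'.hom ≫ Q.hom))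
  let f : G ⟶ Q ⊗ Q' := lift q q'
  obtain ⟨K, _, κ, hκ, hκc, hκk, hκn⟩ := AntiAffLib.exists_kernel f
  haveI := hκ; haveI := hκc
  haveI : Mono κ := Over.mono_of_mono_left κ
  obtain ⟨K₁, _, a, ha, hac, hK₁s, hK₁c, hK₁n, hK₁r⟩ := exists_reduced_component κ hκn
  haveI := ha; haveI := hac; haveI := hK₁s; haveI := hK₁c
  haveI : IsClosedImmersion (a ≫ κ).left := by rw [Over.comp_left]; infer_instance
  haveI : Mono (a ≫ κ) := Over.mono_of_mono_left _
  haveI : LocallyOfFiniteType K₁.hom := inferInstance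
  haveI : QuasiCompact K₁.hom := by rw [← Over.w (a ≫ κ)]; infer_instance
  haveI : Flat K₁.hom := GrpField.flat_field _
  haveI : Flat G.hom := GrpField.flat_field _
  obtain ⟨Q₁, _, q₁, hq₁, hq₁f, hq₁s, hq₁l, hk₁, -, -, hQ₁s⟩ := Groth.Agent.S3030.result k K₁ G (a ≫ κ) hK₁n
  haveI := hq₁; haveI := hq₁f; haveI := hq₁s; haveI := hq₁l
  haveI := hQ₁s ‹Smooth G.hom›
  haveI : CompactSpace Q₁.left := ⟨by
    rw [← Set.range_eq_univ.mpr q₁.left.surjective]; exact isCompact_range q₁.left.continuous⟩
  haveI : QuasiCompact Q₁.hom := quasiCompact_of_compactSpace _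
  haveI : ConnectedSpace Q₁.left := q₁.left.surjective.connectedSpace q₁.left.continuous
  haveI : Epi q₁ := Groth.Agent.MonoQuot.epi_over q₁
  have hκf : (a ≫ κ) ≫ f = 1 := by
    rw [Category.assoc, hκk.w, ← Category.assoc, Hom.one_def, toUnit_unique (a ≫ toUnit K) (toUnit _)]
  obtain ⟨ψ, hψm, hψ⟩ := AlbNormLib.exists_desc_hom hk₁ f hκf
  haveI := hψm
  obtain ⟨N, _, ν, hν, hνc, hνk, -⟩ := AntiAffLib.exists_kernel ψ
  haveI := hν; haveI := hνc
  haveI : LocallyOfFiniteType N.hom := by rw [← Over.w ν]; infer_instance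
  haveI : QuasiCompact N.hom := by rw [← Over.w ν]; infer_instance
  obtain ⟨π, hπ⟩ : ∃ π : K ⟶ N, π ≫ ν = κ ≫ q₁ := AntiAffLib.exists_lift_kernel hνk _ (by
    rw [Category.assoc, hψ, hκk.w, Hom.one_def])
  haveI : IsMonHom π := by
    haveI : Mono ν := Over.mono_of_mono_left ν
    haveI : IsMonHom (π ≫ ν) := by rw [hπ]; infer_instance
    exact DiagRep.isMonHom_of_comp_mono π ν
  haveI : Mono ν := Over.mono_of_mono_left ν
  have sqN : IsPullback π κ ν q₁ := by
    choose l₀ hl₀ using fun c : PullbackCone ν q₁ => AntiAffLib.exists_lift_kernel hκk c.snd (by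
      rw [← hψ, ← Category.assoc, ← c.condition, Category.assoc, hνk.w, ← Category.assoc, Hom.one_def,
        toUnit_unique (c.fst ≫ toUnit N) (toUnit _)])
    refine ⟨⟨hπ⟩, ⟨PullbackCone.IsLimit.mk _ l₀ (fun c => ?_) hl₀ (fun c m _ h2 => ?_)⟩⟩
    · rw [← cancel_mono ν, Category.assoc, hπ, ← Category.assoc, hl₀, c.condition]
    · rw [← cancel_mono κ, hl₀]; exact h2
  haveI : Surjective π.left :=
    MorphismProperty.of_isPullback (P := @Surjective) (sqN.map (Over.forget _)).flip hq₁s
  have haπ : a ≫ π = 1 := by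
    rw [← cancel_mono ν, Category.assoc, hπ, ← Category.assoc, hk₁.w, MonObj.one_comp, ← Hom.one_def]
  haveI : Finite N.left := hK₁r N π haπ
  haveI : LocallyQuasiFinite N.hom := LocallyQuasiFinite.of_finite_preimage_singleton _ fun _ => Set.toFinite _
  haveI : IsFinite N.hom := IsFinite.of_locallyQuasiFinite _
  have hQ₁ : SemiAbLib.IsSemiAb Q₁ := isSemiAb_of_finite_kernel (isSemiAb_prod hQsa hQ') ψ ν hνk
  -- inclusions
  have hfst : (a ≫ κ) ≫ q = 1 := by
    have := congrArg (· ≫ fst Q Q') hκf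
    simpa only [f, Category.assoc, lift_fst, MonObj.one_comp] using this
  have hsnd : (a ≫ κ) ≫ q' = 1 := by
    have := congrArg (· ≫ snd Q Q') hκf
    simpa only [f, Category.assoc, lift_snd, MonObj.one_comp] using this
  obtain ⟨l, hl⟩ := AntiAffLib.exists_lift_kernel hk (a ≫ κ) hfst
  obtain ⟨l', hl'⟩ := AntiAffLib.exists_lift_kernel hk' (a ≫ κ) hsnd
  have hle : h.left.ker ≤ (a ≫ κ).left.ker := by
    rw [← hl, Over.comp_left]; exact Scheme.Hom.le_ker_comp _ _
  have heq : (a ≫ κ).left.ker = h.left.ker :=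
    (hle.eq_of_not_lt (fun hlt => hmax _
      ⟨K₁, inferInstance, a ≫ κ, inferInstance, inferInstance, hK₁n, hK₁s, hK₁c,
        ⟨Q₁, inferInstance, q₁, hq₁, hq₁s, hq₁f, hk₁, hQ₁⟩, rfl⟩ hlt)).symm
  haveI : IsIso l.left := IsClosedImmersion.isIso_of_ker_eq (a ≫ κ).left h.left l.left
    (congrArg CommaMorphism.left hl) heq
  haveI : IsIso ((Over.forget _).map l) := ‹IsIso l.left›
  haveI : IsIso l := isIso_of_reflects_iso l (Over.forget _)
  exact ⟨inv l ≫ l', by rw [Category.assoc, hl', ← hl, IsIso.inv_hom_id_assoc]⟩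

end Gug

end
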